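import Groth.Agent.H78.HensDescent.Ring
import Groth.Agent.H24.DescFP7

/-!
# Finitely presented schemes over a henselian local ring descend to a Noetherian henselian local ring
-/

set_option autoImplicit false
set_option linter.style.haveILetI false
universe u

namespace Groth.Agent.H78.HensDescent

open CategoryTheory CategoryTheory.Limits AlgebraicGeometry TopologicalSpace Groth.Agent.H24

set_option backward.isDefEq.respectTransparency false in
/-- models over finitely generated `ℤ`-subalgebras, without an extra property -/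
theorem exists_model_over_fg_int' (A : Type u) [CommRing A] {X : Scheme.{u}}
    (f : X ⟶ Spec (CommRingCat.of A))
    [LocallyOfFinitePresentation f] [QuasiCompact f] [QuasiSeparated f] :
    ∃ A₀ : Subalgebra ℤ A, A₀.FG ∧
      ∃ (X₀ : Scheme.{u}) (f₀ : X₀ ⟶ Spec (CommRingCat.of ↥A₀)) (g : X ⟶ X₀),
        LocallyOfFinitePresentation f₀ ∧ CompactSpace X₀ ∧ QuasiSeparatedSpace X₀ ∧
          IsPullback g f f₀ (Spec.map (CommRingCat.ofHom (algebraMap (↥A₀) A))) := by
  let F := fgIntDiagram A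
  let D : (FGIntSub A)ᵒᵖ ⥤ Scheme.{u} := F.op ⋙ Scheme.Spec
  obtain ⟨hc₀⟩ := isColimit_fgIntCocone A
  let c : Cone D := Scheme.Spec.mapCone (fgIntCocone A).op
  have hc : IsLimit c := isLimitOfPreserves Scheme.Spec hc₀.op
  have haff : ∀ {i j : (FGIntSub A)ᵒᵖ} (g : i ⟶ j), IsAffineHom (D.map g) := fun g => by
    dsimp [D]; infer_instance
  have hDaff : ∀ i, IsAffine (D.obj i) := fun i => by dsimp [D]; infer_instance
  have hDc : ∀ i, CompactSpace (D.obj i) := fun i => inferInstance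
  have hDs : ∀ i, QuasiSeparatedSpace (D.obj i) := fun i => inferInstance
  obtain ⟨j, Xj, fj, g, h1, h2, h3, h5⟩ := exists_descAt D c hc (X := X) f
  exact ⟨j.unop.1, j.unop.2, Xj, fj, g, h1, h2, h3, h5⟩

/-- **S5058.** -/
theorem exists_noetherian_henselian_descent (A : Type u) [CommRing A] [HenselianLocalRing A]
    {X : Scheme.{u}} (f : X ⟶ Spec (CommRingCat.of A)) [LocallyOfFinitePresentation f]
    [QuasiCompact f] [QuasiSeparated f] :
    ∃ (A₀ : Type u) (_ : CommRing A₀) (_ : HenselianLocalRing A₀) (_ : IsNoetherianRing A₀)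
      (φ : A₀ →+* A) (_ : IsLocalHom φ)
      (X₀ : Scheme.{u}) (f₀ : X₀ ⟶ Spec (CommRingCat.of A₀)) (g : X ⟶ X₀),
      LocallyOfFiniteType f₀ ∧ QuasiCompact f₀ ∧
        IsPullback g f f₀ (Spec.map (CommRingCat.ofHom φ)) := by
  obtain ⟨B₀, hfg, X₀, f₀, g, hfp, hcpt, hqs, hpb⟩ := exists_model_over_fg_int' A f
  obtain ⟨H, _, _, hnoe, φ, hφ, ι, hφι⟩ := exists_noetherian_henselian_factor A B₀ hfg
  haveI := hfp
  haveI := hcpt
  haveI : QuasiCompact f₀ := inferInstance
  -- the base change to `H`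
  obtain ⟨sι, hsι⟩ : ∃ s : Spec (CommRingCat.of H) ⟶ Spec (CommRingCat.of ↥B₀),
      s = Spec.map (CommRingCat.ofHom ι) := ⟨_, rfl⟩
  obtain ⟨sφ, hsφ⟩ : ∃ s : Spec (CommRingCat.of A) ⟶ Spec (CommRingCat.of H),
      s = Spec.map (CommRingCat.ofHom φ) := ⟨_, rfl⟩
  have hcomp : sφ ≫ sι = Spec.map (CommRingCat.ofHom (algebraMap (↥B₀) A)) := by
    rw [hsι, hsφ, ← Spec.map_comp, ← CommRingCat.ofHom_comp, hφι]
  let X₁ : Scheme.{u} := pullback f₀ sι
  let f₁ : X₁ ⟶ Spec (CommRingCat.of H) := pullback.snd f₀ sι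
  have hw : g ≫ f₀ = (f ≫ sφ) ≫ sι := by
    rw [Category.assoc, hcomp]
    exact hpb.w
  let g₁ : X ⟶ X₁ := pullback.lift g (f ≫ sφ) hw
  have hg₁fst : g₁ ≫ pullback.fst f₀ sι = g := pullback.lift_fst _ _ _
  have hg₁snd : g₁ ≫ f₁ = f ≫ sφ := pullback.lift_snd _ _ _
  have hright : IsPullback (pullback.fst f₀ sι) f₁ f₀ sι := IsPullback.of_hasPullback f₀ sι
  have hbig : IsPullback (g₁ ≫ pullback.fst f₀ sι) f f₀ (sφ ≫ sι) := by
    rw [hg₁fst, hcomp]
    exact hpb
  have hleft : IsPullback g₁ f f₁ sφ := IsPullback.of_right hbig hg₁snd hright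
  have hft : LocallyOfFiniteType f₁ := by
    haveI : LocallyOfFinitePresentation (pullback.snd f₀ sι) := inferInstance
    exact (inferInstance : LocallyOfFiniteType (pullback.snd f₀ sι))
  have hqc : QuasiCompact f₁ := (inferInstance : QuasiCompact (pullback.snd f₀ sι))
  rw [hsφ] at hleft
  exact ⟨H, inferInstance, inferInstance, hnoe, φ, hφ, X₁, f₁, g₁, hft, hqc, hleft⟩

end Groth.Agent.H78.HensDescent
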