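import Groth.Agent.H78.ArtinApx.HensPackage
import Groth.Agent.S0506

/-!
# A henselian local ring receives a local map from a Noetherian henselian local ring through which
a given finitely generated `ℤ`-subalgebra factors
-/

set_option autoImplicit false
set_option linter.style.haveILetI false
universe u

namespace Groth.Agent.H78.HensDescent

open IsLocalRing

/-- Let `A` be a henselian local ring and `A₀` a finitely generated `ℤ`-subalgebra.  Then the
inclusion `A₀ → A` factors through a local homomorphism `φ : H → A` from a Noetherian henselian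
local ring `H`. -/
theorem exists_noetherian_henselian_factor (A : Type u) [CommRing A] [HenselianLocalRing A]
    (A₀ : Subalgebra ℤ A) (hfg : A₀.FG) :
    ∃ (H : Type u) (_ : CommRing H) (_ : HenselianLocalRing H) (_ : IsNoetherianRing H)
      (φ : H →+* A) (_ : IsLocalHom φ) (ι : A₀ →+* H), φ.comp ι = algebraMap A₀ A := by
  haveI : Algebra.FiniteType ℤ A₀ := (Subalgebra.fg_iff_finiteType A₀).mp hfg
  haveI : IsNoetherianRing A₀ := Algebra.FiniteType.isNoetherianRing ℤ A₀
  let m₀ : Ideal A₀ := (maximalIdeal A).comap (algebraMap A₀ A)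
  haveI : m₀.IsPrime := Ideal.comap_isPrime _ _
  let R₀ := Localization.AtPrime m₀
  haveI : IsNoetherianRing R₀ := IsLocalization.isNoetherianRing m₀.primeCompl R₀ inferInstance
  have hunits : ∀ y : m₀.primeCompl, IsUnit (algebraMap A₀ A y) := by
    intro y
    have h1 : algebraMap A₀ A y ∉ maximalIdeal A := y.2
    by_contra h2
    exact h1 ((mem_maximalIdeal _).mpr h2)
  let lam : R₀ →+* A := IsLocalization.lift (M := m₀.primeCompl) (g := algebraMap A₀ A) hunits
  have hlam : ∀ a, lam (algebraMap A₀ R₀ a) = algebraMap A₀ A a := fun a =>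
    IsLocalization.lift_eq _ a
  haveI hlamloc : IsLocalHom lam := by
    refine ⟨fun x hx => ?_⟩
    obtain ⟨a, s, rfl⟩ := IsLocalization.exists_mk'_eq m₀.primeCompl x
    have h1 : lam (IsLocalization.mk' R₀ a s) * algebraMap A₀ A s = algebraMap A₀ A a := by
      rw [← hlam, ← map_mul, IsLocalization.mk'_spec, hlam]
    have h2 : IsUnit (algebraMap A₀ A a) := by
      rw [← h1]
      exact hx.mul (hunits s)
    have h3 : a ∈ m₀.primeCompl := by
      intro ha
      exact ((mem_maximalIdeal _).mp ha) h2
    have h4 : IsUnit (algebraMap A₀ R₀ a) := IsLocalization.map_units R₀ (⟨a, h3⟩ : m₀.primeCompl)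
    have h5 : IsLocalization.mk' R₀ a s * algebraMap A₀ R₀ s = algebraMap A₀ R₀ a :=
      IsLocalization.mk'_spec R₀ a s
    rw [← h5] at h4
    exact isUnit_of_mul_isUnit_left h4
  obtain ⟨H, _, _, _, _, hH⟩ := Groth.Agent.S0506.result R₀
  obtain ⟨hnoe, -, hmax, -, -⟩ := Groth.Agent.H78.ArtinApx.hens_package R₀ H
  haveI : HenselianLocalRing H := hH.henselian
  obtain ⟨φ, hφ, -⟩ := hH.universal A lam hlamloc
  have hφloc : IsLocalHom φ := by
    refine ⟨fun x hx => ?_⟩
    by_contra hnu
    have hxm : x ∈ maximalIdeal H := (mem_maximalIdeal _).mpr hnu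
    rw [← hmax] at hxm
    have hle : (maximalIdeal R₀).map (algebraMap R₀ H) ≤ (maximalIdeal A).comap φ := by
      rw [Ideal.map_le_iff_le_comap]
      intro r hr
      rw [Ideal.mem_comap, Ideal.mem_comap]
      have h1 : φ (algebraMap R₀ H r) = lam r := RingHom.congr_fun hφ r
      rw [h1, mem_maximalIdeal]
      intro hu
      exact ((mem_maximalIdeal _).mp hr) (hlamloc.map_nonunit r hu)
    exact ((mem_maximalIdeal _).mp (hle hxm)) hx
  refine ⟨H, inferInstance, inferInstance, hnoe, φ, hφloc,
    (algebraMap R₀ H).comp (algebraMap A₀ R₀), ?_⟩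
  refine RingHom.ext fun a => ?_
  change φ (algebraMap R₀ H (algebraMap A₀ R₀ a)) = _
  have h1 : φ (algebraMap R₀ H (algebraMap A₀ R₀ a)) = lam (algebraMap A₀ R₀ a) :=
    RingHom.congr_fun hφ _
  rw [h1, hlam]

end Groth.Agent.H78.HensDescent
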